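import Cfsg.Agent.H270.RG.Num
import Cfsg.Agent.H94.RG.UStmts

/-!
# S5715, U1: numerics in unbounded rank (helper270)
-/

set_option autoImplicit false

namespace Cfsg.Agent.H270.RG

open Filter Topology Polynomial

/-- the divisors of `N` all of whose prime divisors are at least `B` -/
noncomputable def DB (B N : ℕ) : Finset ℕ :=
  @Finset.filter ℕ (fun m => ∀ r : ℕ, r.Prime → r ∣ m → B ≤ r) (Classical.decPred _) N.divisors

theorem mem_DB {B N m : ℕ} : m ∈ DB B N ↔ (m ∣ N ∧ N ≠ 0) ∧ ∀ r : ℕ, r.Prime → r ∣ m → B ≤ r := by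
  classical
  rw [DB, Finset.mem_filter, Nat.mem_divisors]

theorem card_DB {B : ℕ} (hB : 2 ^ 16 ≤ B) (N : ℕ) : N ≠ 0 → (DB B N).card ^ 16 ≤ N := by
  classical
  induction N using induction_on_primes with
  | zero => intro h; exact absurd rfl h
  | one =>
    intro _
    have h1 : DB B 1 ⊆ {1} := by
      intro m hm
      rw [mem_DB] at hm
      rw [Finset.mem_singleton]
      exact Nat.dvd_one.1 hm.1.1
    have h2 := Finset.card_le_card h1
    rw [Finset.card_singleton] at h2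
    calc (DB B 1).card ^ 16 ≤ 1 ^ 16 := Nat.pow_le_pow_left h2 16
      _ = 1 := one_pow _
  | prime_mul p a hp ih =>
    intro h0
    have ha : a ≠ 0 := fun h => h0 (by rw [h, mul_zero])
    have ih := ih ha
    have hmem : ∀ m, m ∈ DB B (p * a) → ¬ p ∣ m → m ∈ DB B a := by
      intro m hm hpm
      rw [mem_DB] at hm ⊢
      have hc : Nat.Coprime m p := ((hp.coprime_iff_not_dvd).2 hpm).symm
      exact ⟨⟨hc.dvd_of_dvd_mul_left hm.1.1, ha⟩, hm.2⟩
    rcases Nat.lt_or_ge p B with hpB | hpB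
    · have h1 : DB B (p * a) ⊆ DB B a := by
        intro m hm
        refine hmem m hm fun hpm => ?_
        have := (mem_DB.1 hm).2 p hp hpm
        omega
      calc (DB B (p * a)).card ^ 16 ≤ (DB B a).card ^ 16 := Nat.pow_le_pow_left (Finset.card_le_card h1) 16
        _ ≤ a := ih
        _ ≤ p * a := Nat.le_mul_of_pos_left _ hp.pos
    · have h1 : DB B (p * a) ⊆ DB B a ∪ (DB B a).image (fun m => p * m) := by
        intro m hm
        by_cases hpm : p ∣ m
        · obtain ⟨m', rfl⟩ := hpm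
          refine Finset.mem_union_right _ (Finset.mem_image.2 ⟨m', ?_, rfl⟩)
          rw [mem_DB] at hm ⊢
          exact ⟨⟨Nat.dvd_of_mul_dvd_mul_left hp.pos hm.1.1, ha⟩, fun r hr hrm => hm.2 r hr (hrm.mul_left p)⟩
        · exact Finset.mem_union_left _ (hmem m hm hpm)
      have h2 : (DB B (p * a)).card ≤ 2 * (DB B a).card := by
        refine (Finset.card_le_card h1).trans ((Finset.card_union_le _ _).trans ?_)
        have := Finset.card_image_le (s := DB B a) (f := fun m => p * m)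
        omega
      calc (DB B (p * a)).card ^ 16 ≤ (2 * (DB B a).card) ^ 16 := Nat.pow_le_pow_left h2 16
        _ = 2 ^ 16 * (DB B a).card ^ 16 := mul_pow _ _ _
        _ ≤ p * a := Nat.mul_le_mul (hB.trans hpB) ih

/-- the value of the cyclotomic polynomial -/
noncomputable def cy (q d : ℕ) : ℕ := ((cyclotomic d ℤ).eval (q : ℤ)).natAbs

theorem prod_cy {q e : ℕ} (hq : 1 ≤ q) (he : 0 < e) : ∏ d ∈ e.divisors, cy q d = q ^ e - 1 := by
  have h1 := congrArg (Polynomial.eval (q : ℤ)) (prod_cyclotomic_eq_X_pow_sub_one he ℤ)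
  rw [Polynomial.eval_prod] at h1
  simp only [eval_sub, eval_pow, eval_X, eval_one] at h1
  have h2 := congrArg Int.natAbs h1
  have h3 : (((q : ℤ) ^ e - 1)).natAbs = q ^ e - 1 := by
    have h4 : ((q : ℤ) ^ e - 1) = ((q ^ e - 1 : ℕ) : ℤ) := by
      have : 1 ≤ q ^ e := Nat.one_le_pow _ _ hq
      push_cast [Nat.cast_sub this]
      ring
    rw [h4, Int.natAbs_natCast]
  rw [h3] at h2
  rw [← h2]
  exact (map_prod Int.natAbsHom (fun d => (cyclotomic d ℤ).eval (q : ℤ)) e.divisors).symm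

theorem cy_dvd {q d : ℕ} (hq : 1 ≤ q) (hd : 0 < d) : cy q d ∣ q ^ d - 1 := by
  rw [← prod_cy hq hd]
  exact Finset.dvd_prod_of_mem _ (Nat.mem_divisors_self d hd.ne')

theorem cy_pos {q e : ℕ} (hq : 2 ≤ q) : 0 < cy q e := by
  rw [cy, Int.natAbs_pos]
  exact (cyclotomic_pos' e (by exact_mod_cast hq : (1 : ℤ) < q)).ne'

theorem cy_le {q e : ℕ} (hq : 2 ≤ q) (he : 3 ≤ e) : cy q e ≤ (q ^ 2) ^ e.totient := by
  have hq1 : (1 : ℝ) < q := by exact_mod_cast hq
  have h1 := cyclotomic_eval_lt_add_one_pow_totient (q := (q : ℝ)) he hq1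
  have h2 : ((cy q e : ℕ) : ℝ) = (cyclotomic e ℝ).eval (q : ℝ) := by
    have h3 : ((cy q e : ℕ) : ℤ) = (cyclotomic e ℤ).eval (q : ℤ) := by
      rw [cy, Int.natCast_natAbs, abs_of_pos (cyclotomic_pos' e (by exact_mod_cast hq : (1 : ℤ) < q))]
    have h4 : ((cy q e : ℕ) : ℝ) = (((cy q e : ℕ) : ℤ) : ℝ) := by push_cast; rfl
    rw [h4, h3, ← map_cyclotomic_int e ℝ]
    have h5 := Polynomial.eval_intCast_map (Int.castRingHom ℝ) (cyclotomic e ℤ) (q : ℤ)
    push_cast at h5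
    rw [h5]
    rfl
  rw [← h2] at h1
  have h3 : (cy q e : ℝ) ≤ (((q ^ 2) ^ e.totient : ℕ) : ℝ) := by
    refine h1.le.trans ?_
    push_cast
    refine pow_le_pow_left₀ (by positivity) ?_ _
    have h4 : q + 1 ≤ q ^ 2 := by nlinarith
    exact_mod_cast h4
  exact_mod_cast h3

theorem pd_subset {q e : ℕ} (hq : 2 ≤ q) (he : 3 ≤ e) : Cfsg.Agent.H94.RG.U.pd q e ⊆ DB (e + 1) (cy q e) := by
  classical
  intro m hm
  rw [Cfsg.Agent.H94.RG.U.pd, Finset.mem_filter, Nat.mem_divisors] at hm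
  obtain ⟨⟨hm1, hm2⟩, hm3⟩ := hm
  rw [mem_DB]
  refine ⟨⟨?_, (cy_pos hq).ne'⟩, ?_⟩
  · rw [← prod_cy (by omega) (by omega), ← Nat.insert_self_properDivisors (by omega : e ≠ 0),
      Finset.prod_insert Nat.self_notMem_properDivisors] at hm1
    refine Nat.Coprime.dvd_of_dvd_mul_right ?_ hm1
    refine Nat.Coprime.prod_right fun d hd => ?_
    rw [Nat.mem_properDivisors] at hd
    have hd0 : 0 < d := Nat.pos_of_dvd_of_pos hd.1 (by omega)
    refine Nat.Coprime.symm (Nat.coprime_of_dvd ?_)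
    intro r hr hrd hrm
    have h1 := hm3 r hr hrm
    have h2 : r ∣ q ^ d - 1 := hrd.trans (cy_dvd (by omega) hd0)
    have h3 : ((q : ℕ) : ZMod r) ^ d = 1 := by
      have h4 : ((q ^ d - 1 : ℕ) : ZMod r) = 0 := (ZMod.natCast_eq_zero_iff _ _).2 h2
      rw [Nat.cast_sub (Nat.one_le_pow _ _ (by omega)), Nat.cast_one, Nat.cast_pow, sub_eq_zero] at h4
      exact h4
    have h4 := orderOf_dvd_of_pow_eq_one h3
    rw [h1] at h4
    have := Nat.le_of_dvd hd0 h4
    omega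
  · intro r hr hrm
    have : Fact r.Prime := ⟨hr⟩
    have h1 := hm3 r hr hrm
    have h2 : ((q : ℕ) : ZMod r) ≠ 0 := by
      intro h
      have h3 := pow_orderOf_eq_one ((q : ℕ) : ZMod r)
      rw [h1, h, zero_pow (by omega)] at h3
      exact zero_ne_one h3
    have h3 := ZMod.orderOf_dvd_card_sub_one h2
    rw [h1] at h3
    have h4 := Nat.le_of_dvd (by have := hr.two_le; omega) h3
    omega

theorem card_pd {q e : ℕ} (hq : 2 ≤ q) (he : 2 ^ 16 ≤ e + 1) :
    (Cfsg.Agent.H94.RG.U.pd q e).card ^ 8 ≤ q ^ e.totient := by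
  have he3 : 3 ≤ e := by
    norm_num at he
    omega
  have h1 := Finset.card_le_card (pd_subset hq he3)
  have h2 := card_DB he (cy q e) (cy_pos hq).ne'
  have h3 := cy_le hq he3
  have h4 : ((Cfsg.Agent.H94.RG.U.pd q e).card ^ 8) ^ 2 ≤ (q ^ e.totient) ^ 2 := by
    calc ((Cfsg.Agent.H94.RG.U.pd q e).card ^ 8) ^ 2 = (Cfsg.Agent.H94.RG.U.pd q e).card ^ 16 := by rw [← pow_mul]
      _ ≤ (DB (e + 1) (cy q e)).card ^ 16 := Nat.pow_le_pow_left h1 16
      _ ≤ (q ^ 2) ^ e.totient := h2.trans h3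
      _ = (q ^ e.totient) ^ 2 := by rw [← pow_mul, ← pow_mul, mul_comm]
  exact (Nat.pow_le_pow_iff_left two_ne_zero).1 h4

/-- polynomial against exponential -/
theorem exp_largeU (C : ℕ) : ∃ U : ℕ, 1 ≤ U ∧ ∀ u : ℕ, U ≤ u → 2 ^ 24 * (u + 1) ^ (4 * (16 * C + 12)) ≤ 2 ^ u := by
  have h := tendsto_pow_const_div_const_pow_of_one_lt (4 * (16 * C + 12)) (one_lt_two (α := ℝ))
  have hpos : (0 : ℝ) < 1 / (2 ^ 25) := by positivity
  obtain ⟨U, hU⟩ := eventually_atTop.1 (h.eventually (gt_mem_nhds hpos))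
  refine ⟨U + 1, by omega, fun u hu => ?_⟩
  have h1 := hU (u + 1) (by omega)
  rw [div_lt_div_iff₀ (by positivity) (by positivity), one_mul, pow_succ (2 : ℝ) u] at h1
  have h2 : ((2 ^ 24 * (u + 1) ^ (4 * (16 * C + 12)) : ℕ) : ℝ) ≤ ((2 ^ u : ℕ) : ℝ) := by
    push_cast
    push_cast at h1
    nlinarith
  exact_mod_cast h2

/-- the main estimate -/
theorem boundU {C n q e s u : ℕ} (hq : 2 ≤ q) (hu0 : 1 ≤ u)
    (hU : 2 ^ 24 * (u + 1) ^ (4 * (16 * C + 12)) ≤ 2 ^ u)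
    (hu : u * u ≤ s) (hu' : s < (u + 1) * (u + 1)) (hs : n < (s + 1) * (s + 1)) (he : 2 * s ≤ e) (he0 : 2 ^ 16 ≤ e + 1)
    (hen : e ≤ n) :
    16 * e * (2 * (n * (Cfsg.Agent.H94.RG.U.pd q e).card * (n ^ 2 * q) ^ C)) ^ 2 ≤ q ^ e.totient := by
  have he00 : 0 < e := by
    norm_num at he0
    omega
  have hφ : u ≤ e.totient := by
    have h1 := Cfsg.Agent.H365.Zsig.le_two_mul_totient_sq (m := e) (by omega)
    by_contra hcon
    have h2 : e.totient ^ 2 < u * u := by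
      rw [sq]
      exact Nat.mul_self_lt_mul_self (not_le.1 hcon)
    omega
  have hn4 : n ≤ (u + 1) ^ 4 := by
    have h1 : s + 1 ≤ (u + 1) * (u + 1) := hu'
    have h2 : (s + 1) * (s + 1) ≤ ((u + 1) * (u + 1)) * ((u + 1) * (u + 1)) := Nat.mul_le_mul h1 h1
    have h3 : (u + 1) ^ 4 = ((u + 1) * (u + 1)) * ((u + 1) * (u + 1)) := by ring
    omega
  have h8C : 8 * C ≤ u := by
    have h1 : 2 ^ (8 * C) ≤ 2 ^ u := by
      refine le_trans ?_ hU
      calc 2 ^ (8 * C) ≤ 2 ^ (4 * (16 * C + 12)) := Nat.pow_le_pow_right (by norm_num) (by omega)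
        _ ≤ (u + 1) ^ (4 * (16 * C + 12)) := Nat.pow_le_pow_left (by omega) _
        _ ≤ 2 ^ 24 * (u + 1) ^ (4 * (16 * C + 12)) := Nat.le_mul_of_pos_left _ (by norm_num)
    exact (Nat.pow_le_pow_iff_right (by norm_num)).1 h1
  set φ := e.totient with hφdef
  set c := (Cfsg.Agent.H94.RG.U.pd q e).card with hc
  have h1 : c ^ 8 ≤ q ^ φ := card_pd hq he0
  have h2 : 2 ^ 24 * n ^ (16 * C + 12) ≤ q ^ φ := by
    calc 2 ^ 24 * n ^ (16 * C + 12) ≤ 2 ^ 24 * ((u + 1) ^ 4) ^ (16 * C + 12) :=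
          Nat.mul_le_mul_left _ (Nat.pow_le_pow_left hn4 _)
      _ = 2 ^ 24 * (u + 1) ^ (4 * (16 * C + 12)) := by rw [← pow_mul]
      _ ≤ 2 ^ u := hU
      _ ≤ q ^ u := Nat.pow_le_pow_left hq u
      _ ≤ q ^ φ := Nat.pow_le_pow_right (by omega) hφ
  have h3 : q ^ (8 * C) ≤ q ^ φ := Nat.pow_le_pow_right (by omega) (h8C.trans hφ)
  have h4 : 1 ≤ q ^ φ := Nat.one_le_pow _ _ (by omega)
  have key : (16 * e * (2 * (n * c * (n ^ 2 * q) ^ C)) ^ 2) ^ 4 ≤ (q ^ φ) ^ 4 := by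
    calc (16 * e * (2 * (n * c * (n ^ 2 * q) ^ C)) ^ 2) ^ 4
        ≤ (16 * n * (2 * (n * c * (n ^ 2 * q) ^ C)) ^ 2) ^ 4 :=
          Nat.pow_le_pow_left (Nat.mul_le_mul_right _ (Nat.mul_le_mul_left _ hen)) 4
      _ = (2 ^ 24 * n ^ (16 * C + 12)) * c ^ 8 * q ^ (8 * C) * 1 := by ring
      _ ≤ q ^ φ * q ^ φ * q ^ φ * q ^ φ :=
          Nat.mul_le_mul (Nat.mul_le_mul (Nat.mul_le_mul h2 h1) h3) h4
      _ = (q ^ φ) ^ 4 := by ring
  exact (Nat.pow_le_pow_iff_left (by norm_num)).1 key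

/-- **S5715, U1** -/
theorem u1 : Cfsg.Agent.H94.RG.U.U1 := by
  classical
  intro K η C par hη
  obtain ⟨U, hU1, hU⟩ := exp_largeU C
  -- `log` against the square root
  have hlog : ∀ᶠ n : ℕ in atTop, 1 + Real.log n ≤ η * Real.sqrt n := by
    have h1 := isLittleO_log_rpow_atTop (r := 1 / 2) (by norm_num)
    have h2 := h1.bound (show (0 : ℝ) < η / 2 by positivity)
    have h3 : ∀ᶠ x : ℝ in atTop, 1 ≤ η / 2 * Real.sqrt x := by
      have h4 : Tendsto (fun x : ℝ => η / 2 * Real.sqrt x) atTop atTop :=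
        Real.tendsto_sqrt_atTop.const_mul_atTop (by positivity)
      exact h4.eventually_ge_atTop 1
    have h5 : ∀ᶠ x : ℝ in atTop, 1 + Real.log x ≤ η * Real.sqrt x := by
      filter_upwards [h2, h3, eventually_ge_atTop 0] with x h2 h3 h0
      rw [← Real.sqrt_eq_rpow, Real.norm_eq_abs, Real.norm_eq_abs, abs_of_nonneg (Real.sqrt_nonneg x)] at h2
      have := (le_abs_self (Real.log x)).trans h2
      linarith
    exact tendsto_natCast_atTop_atTop.eventually h5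
  have hK : ∀ᶠ n : ℕ in atTop, K ≤ Real.log n / 8 - 2 := by
    have h1 : Tendsto (fun n : ℕ => Real.log n) atTop atTop := Real.tendsto_log_atTop.comp tendsto_natCast_atTop_atTop
    filter_upwards [h1.eventually_ge_atTop (8 * (K + 2))] with n hn
    linarith
  obtain ⟨N1, hN1⟩ := eventually_atTop.1 hlog
  obtain ⟨N2, hN2⟩ := eventually_atTop.1 hK
  refine ⟨max (max N1 N2) (max (U ^ 4) (2 ^ 30)), fun n q hn hq => ?_⟩
  have hn1 : N1 ≤ n := (le_max_left _ _).trans ((le_max_left _ _).trans hn)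
  have hn2 : N2 ≤ n := (le_max_right _ _).trans ((le_max_left _ _).trans hn)
  have hn3 : U ^ 4 ≤ n := (le_max_left _ _).trans ((le_max_right _ _).trans hn)
  have hn4 : 2 ^ 30 ≤ n := (le_max_right _ _).trans ((le_max_right _ _).trans hn)
  set s := Nat.sqrt n with hs
  set u := Nat.sqrt s with hu
  have hs1 : s * s ≤ n := Nat.sqrt_le n
  have hs2 : n < (s + 1) * (s + 1) := Nat.lt_succ_sqrt n
  have hu1 : u * u ≤ s := Nat.sqrt_le s
  have hu2 : s < (u + 1) * (u + 1) := Nat.lt_succ_sqrt s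
  have hUu : U ≤ u := by
    rw [hu, Nat.le_sqrt, hs, Nat.le_sqrt]
    calc U * U * (U * U) = U ^ 4 := by ring
      _ ≤ n := hn3
  have hs15 : 2 ^ 15 ≤ s := by
    rw [hs, Nat.le_sqrt]
    exact le_trans (by norm_num) hn4
  norm_num at hn4 hs15
  have hs30 : 30 ≤ s := by omega
  have hsb : s ≤ n / 8 - 1 := by
    have h1 : 30 * s ≤ n := (Nat.mul_le_mul_right _ hs30).trans hs1
    omega
  set p := par % 2 with hp
  have hp1 : p ≤ 1 := by omega
  set I : Finset ℕ := (Finset.range n).filter (fun e => 2 * s ≤ e ∧ e % 2 = par % 2 ∧ 4 * e + 8 ≤ n ∧ ¬ e ∣ n ∧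
    ¬ e ∣ (n - 1) / 2 ∧ ¬ e ∣ (n + 1) / 2) with hI
  refine ⟨I, fun e => Nat.sqrt (q ^ e.totient / (16 * e)), ?_, ?_⟩
  · intro e he
    rw [hI, Finset.mem_filter, Finset.mem_range] at he
    obtain ⟨he1, he2, he3, he4, he5, he6, he7⟩ := he
    have hb := boundU (C := C) (n := n) (q := q) (e := e) (s := s) (u := u) hq (by omega) (hU u hUu) hu1 hu2 hs2 he2
      (by norm_num; omega) (by omega)
    set X := n * (Cfsg.Agent.H94.RG.U.pd q e).card * (n ^ 2 * q) ^ C with hX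
    have hXM : 2 * X ≤ Nat.sqrt (q ^ e.totient / (16 * e)) := by
      rw [Nat.le_sqrt', Nat.le_div_iff_mul_le (by omega), mul_comm]
      exact hb
    have hX1 : 1 ≤ X := by
      rw [hX]
      have h1 : 1 ≤ (Cfsg.Agent.H94.RG.U.pd q e).card := by
        rw [Nat.one_le_iff_ne_zero, Finset.card_ne_zero]
        refine ⟨1, ?_⟩
        rw [Cfsg.Agent.H94.RG.U.pd, Finset.mem_filter, Nat.mem_divisors]
        refine ⟨⟨one_dvd _, ?_⟩, fun r hr h => absurd (Nat.dvd_one.1 h) hr.one_lt.ne'⟩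
        have : 2 ^ 1 ≤ q ^ e := (Nat.pow_le_pow_right (by norm_num) (by omega)).trans (Nat.pow_le_pow_left hq e)
        omega
      have h2 : 1 ≤ (n ^ 2 * q) ^ C := Nat.one_le_pow _ _ (by positivity)
      have h3 : 1 ≤ n := by omega
      exact Nat.mul_pos (Nat.mul_pos h3 h1) h2
    have hM2 : 2 ≤ Nat.sqrt (q ^ e.totient / (16 * e)) := by omega
    refine ⟨hM2, by omega, he3, he4, he5, he6, he7, ?_, ?_, ?_⟩
    · have h1 := Nat.sqrt_le' (q ^ e.totient / (16 * e))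
      calc 16 * e * Nat.sqrt (q ^ e.totient / (16 * e)) ^ 2 ≤ 16 * e * (q ^ e.totient / (16 * e)) :=
            Nat.mul_le_mul_left _ h1
        _ ≤ q ^ e.totient := Nat.mul_div_le _ _
    · refine harm_le (by omega) ((hN1 n hn1).trans (mul_le_mul_of_nonneg_left ?_ hη.le))
      rw [Real.sqrt_le_left (Nat.cast_nonneg e)]
      have h1 : n ≤ e ^ 2 := by nlinarith
      exact_mod_cast h1
    · have hlog0 : 0 ≤ Real.log q := Real.log_natCast_nonneg q
      have hlog : Real.log q ≤ q := by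
        have := Real.log_le_sub_one_of_pos (x := (q : ℝ)) (by positivity)
        linarith
      have h1 : ((n : ℝ) ^ 2 * Real.log q) ^ C ≤ ((n : ℝ) ^ 2 * q) ^ C :=
        pow_le_pow_left₀ (by positivity) (mul_le_mul_of_nonneg_left hlog (by positivity)) C
      calc (n : ℝ) * ((Cfsg.Agent.H94.RG.U.pd q e).card : ℝ) * ((n : ℝ) ^ 2 * Real.log q) ^ C
          ≤ (n : ℝ) * ((Cfsg.Agent.H94.RG.U.pd q e).card : ℝ) * ((n : ℝ) ^ 2 * q) ^ C :=
            mul_le_mul_of_nonneg_left h1 (by positivity)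
        _ = ((X : ℕ) : ℝ) := by rw [hX]; push_cast; ring
        _ ≤ ((Nat.sqrt (q ^ e.totient / (16 * e)) : ℕ) : ℝ) := by
            have : X ≤ Nat.sqrt (q ^ e.totient / (16 * e)) := by omega
            exact_mod_cast this
  · refine (hN2 n hn2).trans (main_sum hp1 (by omega) hs1 hs2 hsb ?_)
    intro k hk h1 h2 h3
    rw [Finset.mem_Ico] at hk
    rw [hI, Finset.mem_filter, Finset.mem_range]
    exact ⟨by omega, by omega, by omega, by omega, h1, h2, h3⟩

end Cfsg.Agent.H270.RG
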